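import Cfsg.Agent.H55.Fi23C.SideA
import Cfsg.Agent.H38.Fi23C.Quot
import Cfsg.Agent.H50.Fi23C.NoFix
import Cfsg.Agent.H20.Fi23C.Setup
import Cfsg.Agent.H38.Fi22C.Dich
import Cfsg.Agent.H50.Fi22C.Module
import Cfsg.Agent.H16.Fi22C.SwapDead
import Cfsg.Agent.H72.Fi22C.LiveSwap
import Cfsg.Agent.H33.Triple.PairFi22
import Cfsg.Agent.S1714

/-!
S3233: a live centraliser of some `ez` gives the Fischer group. Modulo `⟨az⟩` the centraliser of
`az` is the swap case of S3232: dead makes `z` isolated, live is a double cover of the smaller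
Fischer group, quasisimple as `az` is a product of two commutators.
-/

set_option autoImplicit false
set_option linter.unusedSectionVars false

namespace H55.Fi23C

open H2.Fi23C
open scoped commutatorElement
open H39.Fi22C (Dead)

universe u v w

theorem mem_zpow_two {G : Type*} [Group G] [Finite G] {d : G} (hd : d * d = 1)
    (g : ↥(Subgroup.centralizer ({d} : Set G))) :
    g ∈ (Subgroup.zpowers d).subgroupOf (Subgroup.centralizer ({d} : Set G)) ↔
      ((g : G) = 1 ∨ (g : G) = d) := by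
  rw [Subgroup.mem_subgroupOf]
  constructor
  · rintro ⟨k, hk⟩
    have hk' : d ^ k = (g : G) := hk
    rcases Int.even_or_odd' k with ⟨m, rfl | rfl⟩
    · left; rw [← hk', zpow_mul, zpow_ofNat, pow_two, hd, one_zpow]
    · right; rw [← hk', zpow_add, zpow_mul, zpow_ofNat, pow_two, hd, one_zpow, one_mul, zpow_one]
  · rintro (h | h) <;> rw [h]
    exacts [one_mem _, Subgroup.mem_zpowers d]

theorem zpow_two_normal {G : Type*} [Group G] [Finite G] {d : G} (hd : d * d = 1) :
    ((Subgroup.zpowers d).subgroupOf (Subgroup.centralizer ({d} : Set G))).Normal :=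
  ⟨fun n hn g => by
    rw [mem_zpow_two hd] at hn ⊢
    rcases hn with h | h
    · exact Or.inl (by simp [h])
    · refine Or.inr ?_
      show (g : G) * n * (g : G)⁻¹ = d
      rw [h]
      exact conj_eq_of_comm (cent_comm' g.2)⟩

/-- The involution `az`: dead or the Fischer group. -/
theorem dead_or_fi23 {G : Type u} [Group G] [Finite G] {F : Type v} [Field F] [Fintype F]
    (K : Type w) [Field K] [Fintype K] (hK : Fintype.card K = 4) {z a b c : G}
    {J K₀ : Subgroup G} {π : ↥K₀ →* Cfsg.PSp 2 F} (S : Setup4 z a b c J K₀ π) :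
    Dead z (a * z) ∨ Cfsg.Spor.IsoFi23 G := by
  have hza : Commute z a := (az S).symm
  have hzd : Commute z (a * z) := hza.mul_right (Commute.refl z)
  have hbd : Commute b (a * z) := S.ab_comm.symm.mul_right (bz S)
  have hd2 : a * z * (a * z) = 1 := by
    rw [hza.mul_mul_mul_comm, S.a_sq, S.sq, one_mul]
  set X := Subgroup.centralizer ({a * z} : Set G) with hX
  have hzX : z ∈ X := mem_cent' hzd
  have hbX : b ∈ X := mem_cent' hbd
  have hCX : Subgroup.centralizer ({z} : Set G) ⊓ Subgroup.centralizer ({a} : Set G) ≤ X :=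
    fun g hg => mem_cent' ((cent_comm' hg.2).mul_right (cent_comm' hg.1))
  haveI hn : ((Subgroup.zpowers (a * z)).subgroupOf X).Normal := zpow_two_normal hd2
  let f := QuotientGroup.mk' ((Subgroup.zpowers (a * z)).subgroupOf X)
  have hs : Function.Surjective f := QuotientGroup.mk'_surjective _
  have hk : ∀ g, f g = 1 ↔ ((g : G) = 1 ∨ (g : G) = a * z) := fun g =>
    (QuotientGroup.eq_one_iff g).trans (mem_zpow_two hd2 g)
  obtain ⟨⟨π', S3⟩, -, -, hsw⟩ :=
    H38.Fi23C.quot S (a * z) (Or.inr rfl) X hzX hbX hCX le_rfl f hs hk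
  have hsw' := hsw rfl
  obtain ⟨φ, ρ, N⟩ := (H50.Fi22C.moduleJ S3).resolve_right fun ⟨U, hU⟩ =>
    H50.Fi23C.noFix S (a * z) (Or.inr rfl) X hzX hbX hCX le_rfl f hk U hU
  rcases H38.Fi22C.dichS K hK S3 hsw' with hd | hl
  · left
    have hwc := H16.Fi22C.swapDead S3 N hsw' hd
    refine dead_of_isolated S.sq hzd fun g hg hc => ?_
    let x : ↥X := ⟨g, mem_cent' hg⟩
    have h1 : f (x * ⟨z, hzX⟩ * x⁻¹) = f ⟨z, hzX⟩ := by
      refine hwc _ (mem_cent' ?_) (f.map_isConj (isConj_iff.2 ⟨x, rfl⟩))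
      exact Commute.map (show Commute (x * ⟨z, hzX⟩ * x⁻¹) ⟨z, hzX⟩ from Subtype.ext hc.eq) f
    rw [map_mul, map_mul, map_inv] at h1
    exact conj_eq_of_comm (cent_comm'
      (H38.Fi23C.comm_z S (Or.inr rfl) hzX hCX le_rfl hk x (comm_of_conj_eq h1)))
  · right
    obtain ⟨e₀⟩ := H72.Fi22C.liveSwap K hK S3 hsw' hl
    let f' : ↥X →* Cfsg.Spor.Fi22 := e₀.toMonoidHom.comp f
    have hs' : Function.Surjective f' := e₀.surjective.comp hs
    have hk' : ∀ g, f' g = 1 ↔ ((g : G) = 1 ∨ (g : G) = a * z) := fun g =>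
      (map_eq_one_iff e₀.toMonoidHom e₀.injective).trans (hk g)
    -- perfect
    have hD : commutator ↥X = ⊤ := by
      have hmap : (commutator ↥X).map f' = ⊤ := by
        rw [commutator_def, Subgroup.map_commutator, Subgroup.map_top_of_surjective f' hs',
          ← commutator_def, H33.Triple.perfect_fi22]
      obtain ⟨o, ho, hoa, hob⟩ := S.outer
      have hoX : o ∈ X := hCX ⟨ho, mem_cent' (comm_of_conj_eq hoa)⟩
      obtain ⟨p, hp, q, hq, hne⟩ := H38.Fi23C.exists_noncomm S
      have hpq : p * q = q * p * z := (S.comm_mem p hp q hq).resolve_left hne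
      have hpX : p ∈ X := hCX (H38.Fi23C.J_zero S hp)
      have hqX : q ∈ X := hCX (H38.Fi23C.J_zero S hq)
      have hz' : p⁻¹ * q⁻¹ * p * q = z := by
        rw [mul_assoc, hpq]; group
      have hdD : (⟨a * z, mem_cent' (Commute.refl _)⟩ : ↥X) ∈ commutator ↥X := by
        have e1 : (⟨a * z, mem_cent' (Commute.refl _)⟩ : ↥X) =
            ⁅(⟨o, hoX⟩ : ↥X), ⟨b, hbX⟩⁆ * ⁅(⟨p, hpX⟩ : ↥X)⁻¹, (⟨q, hqX⟩ : ↥X)⁻¹⁆ := by
          refine Subtype.ext ?_
          show a * z = o * b * o⁻¹ * b⁻¹ * (p⁻¹ * q⁻¹ * p⁻¹⁻¹ * q⁻¹⁻¹)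
          rw [hob, inv_inv, inv_inv, hz', mul_inv_cancel_right]
        rw [e1, commutator_def]
        exact mul_mem (Subgroup.commutator_mem_commutator (Subgroup.mem_top _) (Subgroup.mem_top _))
          (Subgroup.commutator_mem_commutator (Subgroup.mem_top _) (Subgroup.mem_top _))
      have hker : f'.ker ≤ commutator ↥X := fun g hg => by
        rcases (hk' g).1 hg with h | h
        · rw [show g = 1 from Subtype.ext h]; exact one_mem _
        · rw [show g = ⟨a * z, mem_cent' (Commute.refl _)⟩ from Subtype.ext h]; exact hdD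
      have := Subgroup.comap_map_eq f' (commutator ↥X)
      rwa [hmap, Subgroup.comap_top, sup_eq_left.2 hker, eq_comm] at this
    have hcen : Subgroup.center ↥X = f'.ker := by
      refine le_antisymm (fun g hg => ?_) fun g hg => Subgroup.mem_center_iff.2 fun y => ?_
      · have : f' g ∈ Subgroup.center Cfsg.Spor.Fi22 := Subgroup.mem_center_iff.2 fun y => by
          obtain ⟨x, rfl⟩ := hs' y
          rw [← map_mul, ← map_mul, Subgroup.mem_center_iff.1 hg x]
        rwa [H33.Triple.center_fi22, Subgroup.mem_bot] at this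
      · refine Subtype.ext ?_
        show (y : G) * g = g * y
        rcases (hk' g).1 hg with h | h <;> rw [h]
        · rw [one_mul, mul_one]
        · exact (cent_comm' y.2).eq
    haveI := H33.Triple.simple_fi22
    have hqs : Cfsg.IsQuasisimple ↥X :=
      ⟨⟨hD⟩, ((QuotientGroup.quotientMulEquivOfEq hcen).trans
        (QuotientGroup.quotientKerEquivOfSurjective f' hs')).isSimpleGroup⟩
    have hne1 : a * z ≠ 1 := fun h => S.a_ne.2 (by
      rw [eq_inv_of_mul_eq_one_left h, inv_eq_of_mul_eq_one_right S.sq])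
    haveI : Fact (Nat.Prime 2) := ⟨Nat.prime_two⟩
    have hord : orderOf (a * z) = 2 := orderOf_eq_prime (by rw [pow_two]; exact hd2) hne1
    refine Cfsg.Agent.S1714.result (a * z) hord hqs ⟨e₀⟩ ⟨c, ?_, ?_⟩
    · rw [show c * (a * z) * c⁻¹ = (c * a * c⁻¹) * (c * z * c⁻¹) by group, S.c_a,
        conj_eq_of_comm (c_z S)]
      exact mem_cent' (hbd.mul_left hzd)
    · rw [show c * (a * z) * c⁻¹ = (c * a * c⁻¹) * (c * z * c⁻¹) by group, S.c_a,
        conj_eq_of_comm (c_z S)]
      exact fun h => S.b_ne.2.2.1 (mul_right_cancel h)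

/-- `LiveDStmt`. -/
theorem liveD : LiveDStmt.{u, v, w} := by
  intro G _ _ F _ _ K _ _ hK z a b c J K₀ π S
  have S' := H20.Fi23C.rot S
  rcases dead_or_fi23 K hK S with h1 | h
  swap; · exact Or.inr h
  rcases dead_or_fi23 K hK S' with h2 | h
  swap; · exact Or.inr h
  rcases dead_or_fi23 K hK (H20.Fi23C.rot S') with h3 | h
  swap; · exact Or.inr h
  refine Or.inl ?_
  rintro e (rfl | rfl | rfl)
  exacts [h1, h2, h3]

end H55.Fi23C
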