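import Cfsg.Agent.H2.Fi23C.Basic
import Cfsg.Agent.H38.Fi22C.NonConj
import Cfsg.Agent.H38.U6C.Main
import Cfsg.Agent.H50.Simple

/-!
S3233: with all `ez` dead the centraliser of `a` is dead or normalises `W`. The quotient by `⟨a⟩` is
the case without swap of S3232, whose modules enter as hypotheses.
-/

set_option autoImplicit false
set_option linter.unusedSectionVars false
set_option linter.style.haveILetI false

namespace H55.Fi23C

open H2.Fi23C
open H39.Fi22C (Dead LiveN NoSwap NatJ Setup3)

universe u v w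

variable {G : Type u} [Group G] [Finite G] {F : Type v} [Field F] [Fintype F] {z a b c : G}
  {J K₀ : Subgroup G} {π : ↥K₀ →* Cfsg.PSp 2 F}

theorem comm_of_conj_eq {g p : G} (h : g * p * g⁻¹ = p) : Commute g p :=
  mul_inv_eq_iff_eq_mul.1 h

theorem conj_eq_of_comm {g p : G} (h : Commute g p) : g * p * g⁻¹ = p :=
  mul_inv_eq_iff_eq_mul.2 h.eq

theorem mem_cent' {g p : G} (h : Commute g p) : g ∈ Subgroup.centralizer ({p} : Set G) :=
  Subgroup.mem_centralizer_singleton_iff.2 h.eq

theorem cent_comm' {g p : G} (h : g ∈ Subgroup.centralizer ({p} : Set G)) : Commute g p :=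
  Subgroup.mem_centralizer_singleton_iff.1 h

/-- Isolation in the centraliser of `e` gives `Dead`. -/
theorem dead_of_isolated {e : G} (hz : z * z = 1) (hze : Commute z e)
    (h1 : ∀ g : G, Commute g e → Commute (g * z * g⁻¹) z → g * z * g⁻¹ = z) : Dead z e := by
  refine ⟨h1, fun P hP hPe hzP p hp => ?_⟩
  haveI : Fact (Nat.Prime 2) := ⟨Nat.prime_two⟩
  have hZ2 : IsPGroup 2 (Subgroup.zpowers z) := by
    intro g
    obtain ⟨g, k, rfl⟩ := g
    refine ⟨1, Subtype.ext ?_⟩
    show (z ^ k) ^ (2 ^ 1) = 1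
    rw [pow_one, ← zpow_natCast, ← zpow_mul, mul_comm, zpow_mul, zpow_natCast, pow_two, hz,
      one_zpow]
  have hnorm : Subgroup.zpowers z ≤ Subgroup.normalizer P := by
    refine Subgroup.zpowers_le.2 (Subgroup.mem_normalizer_iff.2 fun x => ⟨hzP x, fun hx => ?_⟩)
    have := hzP _ hx
    rw [inv_eq_of_mul_eq_one_right hz] at this
    simpa only [mul_assoc, hz, mul_one, ← mul_assoc z z, one_mul] using this
  have hQ : IsPGroup 2 ↥(Subgroup.zpowers z ⊔ P) := hZ2.to_sup_of_normal_right' hP hnorm
  have hQe : ∀ q ∈ Subgroup.zpowers z ⊔ P, Commute q e := fun q hq =>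
    cent_comm' ((sup_le (Subgroup.zpowers_le.2 (mem_cent' hze)) fun p hp => mem_cent' (hPe p hp)) hq)
  haveI := hQ.isNilpotent
  set R : Subgroup ↥(Subgroup.zpowers z ⊔ P) :=
    (Subgroup.centralizer ({z} : Set G)).subgroupOf (Subgroup.zpowers z ⊔ P) with hR
  by_contra hne
  have hlt : R < ⊤ := lt_top_iff_ne_top.2 fun htop => by
    have : (⟨p, Subgroup.mem_sup_right hp⟩ : ↥(Subgroup.zpowers z ⊔ P)) ∈ R :=
      htop ▸ Subgroup.mem_top _
    exact hne (Subgroup.mem_centralizer_singleton_iff.1 this).symm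
  obtain ⟨q, hq, hqR⟩ := SetLike.exists_of_lt (Group.normalizerCondition_of_isNilpotent R hlt)
  have hzR : (⟨z, Subgroup.mem_sup_left (Subgroup.mem_zpowers z)⟩ :
      ↥(Subgroup.zpowers z ⊔ P)) ∈ R := Subgroup.mem_centralizer_singleton_iff.2 rfl
  have hqz := (Subgroup.mem_normalizer_iff.1 hq _).1 hzR
  have heq := h1 q (hQe q q.2) (Subgroup.mem_centralizer_singleton_iff.1 hqz)
  rw [mul_inv_eq_iff_eq_mul] at heq
  exact hqR (Subgroup.mem_centralizer_singleton_iff.2 heq)

section basics

variable (S : Setup4 z a b c J K₀ π)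
include S

theorem comm_z (hg : G) (h : hg ∈ J) : Commute hg z := cent_comm' (S.le_cent (S.J_le h))

theorem az : Commute a z := comm_z S a S.a_mem

theorem bz : Commute b z := comm_z S b S.b_mem

theorem c_z : Commute c z := cent_comm' S.c_mem

theorem c_ab : c * (a * b) * c⁻¹ = a := by
  rw [show c * (a * b) * c⁻¹ = (c * a * c⁻¹) * (c * b * c⁻¹) by group, S.c_a, S.c_b, ← mul_assoc,
    ← S.ab_comm.eq, mul_assoc, S.b_sq, mul_one]

/-- The elements of `W` are carried to `a` by powers of `c`. -/
theorem exists_rot {e : G} (he : IsA a b e) :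
    ∃ d, Commute d z ∧ d * e * d⁻¹ = a := by
  rcases he with rfl | rfl | rfl
  · exact ⟨1, Commute.one_left z, by group⟩
  · refine ⟨c⁻¹, (c_z S).inv_left, ?_⟩
    rw [← S.c_a]; group
  · exact ⟨c, c_z S, c_ab S⟩

theorem normW_mul {g h : G} (hg : NormW a b g) (hh : NormW a b h) : NormW a b (g * h) :=
  fun w hw => by
    rw [show g * h * w * (g * h)⁻¹ = g * (h * w * h⁻¹) * g⁻¹ by group]
    exact hg _ (hh w hw)

theorem dead_rot (h : Dead z a) {e : G} (he : IsA a b e) : Dead z e := by
  obtain ⟨d, hdz, hde⟩ := exists_rot S he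
  have hz' : d * z * d⁻¹ = z := conj_eq_of_comm hdz
  refine dead_of_isolated S.sq ?_ fun g hg hc => ?_
  · have h1 : Commute z a := (az S).symm
    have := h1.map (MulAut.conj d⁻¹).toMonoidHom
    simp only [MulEquiv.coe_toMonoidHom, MulAut.conj_apply, inv_inv] at this
    rw [show d⁻¹ * z * d = z by rw [mul_assoc, ← hdz.eq, inv_mul_cancel_left],
      show d⁻¹ * a * d = e by rw [← hde]; group] at this
    exact this
  · have hga : Commute (d * g * d⁻¹) a := by
      have := hg.map (MulAut.conj d).toMonoidHom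
      simp only [MulEquiv.coe_toMonoidHom, MulAut.conj_apply, hde] at this
      exact this
    have e1 : d * g * d⁻¹ * z * (d * g * d⁻¹)⁻¹ = d * (g * z * g⁻¹) * d⁻¹ := by
      conv_lhs => rw [← hz']
      group
    have hc' : Commute (d * g * d⁻¹ * z * (d * g * d⁻¹)⁻¹) z := by
      have := hc.map (MulAut.conj d).toMonoidHom
      simp only [MulEquiv.coe_toMonoidHom, MulAut.conj_apply, hz'] at this
      rw [e1]
      exact this
    have h2 := h.1 _ hga hc'
    rw [e1] at h2
    calc g * z * g⁻¹ = d⁻¹ * (d * (g * z * g⁻¹) * d⁻¹) * d := by group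
      _ = z := by rw [h2, mul_assoc, ← hdz.eq, inv_mul_cancel_left]

end basics

/-- In both cases moving `z` into its centraliser inside a `C(e)` normalises `W`. -/
theorem good : GoodStmt.{u, v, w} := by
  intro G _ _ F _ _ K _ _ z a b c J K₀ π S h e he g hg hc
  rcases h with h | ⟨h, -⟩
  · exact S.conj_W g (mem_cent' (comm_of_conj_eq ((h e he).1 g hg hc)))
  · obtain ⟨d, hdz, hde⟩ := exists_rot S he
    have hga : Commute (d * g * d⁻¹) a := by
      have := hg.map (MulAut.conj d).toMonoidHom
      simp only [MulEquiv.coe_toMonoidHom, MulAut.conj_apply, hde] at this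
      exact this
    have := normW_mul S (normW_mul S (S.conj_W d⁻¹ (inv_mem (mem_cent' hdz))) (h _ hga))
      (S.conj_W d (mem_cent' hdz))
    simpa [mul_assoc] using this

/-- The subgroup generated by `a` in its centraliser. -/
def genA (a : G) : Subgroup ↥(Subgroup.centralizer ({a} : Set G)) :=
  Subgroup.zpowers ⟨a, Subgroup.mem_centralizer_singleton_iff.2 rfl⟩

theorem genA_normal (a : G) : (genA a).Normal :=
  ⟨fun n hn g => by
    obtain ⟨k, rfl⟩ := hn
    refine ⟨k, ?_⟩
    have : Commute g ⟨a, Subgroup.mem_centralizer_singleton_iff.2 rfl⟩ :=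
      Subtype.ext (Subgroup.mem_centralizer_singleton_iff.1 g.2)
    show _ = g * _ * g⁻¹
    rw [(this.zpow_right k).eq, mul_inv_cancel_right]⟩

theorem mem_genA (ha : a * a = 1) (g : ↥(Subgroup.centralizer ({a} : Set G))) :
    g ∈ genA a ↔ ((g : G) = 1 ∨ (g : G) = a) := by
  constructor
  · rintro ⟨k, rfl⟩
    show a ^ k = 1 ∨ a ^ k = a
    rcases Int.even_or_odd' k with ⟨m, rfl | rfl⟩
    · left; rw [zpow_mul, zpow_ofNat, pow_two, ha, one_zpow]
    · right; rw [zpow_add, zpow_mul, zpow_ofNat, pow_two, ha, one_zpow, one_mul, zpow_one]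
  · rintro (h | h)
    · exact (show g = 1 from Subtype.ext h) ▸ Subgroup.one_mem _
    · exact (show g = ⟨a, Subgroup.mem_centralizer_singleton_iff.2 rfl⟩ from Subtype.ext h) ▸
        Subgroup.mem_zpowers _

/-- The hypotheses with `a` and `az` exchanged keep the coordinates. -/
theorem natJ_mul {H₀ : Subgroup G} {φ : G → H38.U6C.V}
    {ρ : ↥(Subgroup.centralizer ({z} : Set G)) →* Equiv.Perm H38.U6C.V} {π' : ↥H₀ →* Cfsg.PSp 2 F}
    (S : Setup3 z a J H₀ π') (N : NatJ z a J H₀ φ ρ) : NatJ z (a * z) J H₀ φ ρ := by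
  have T := H38.Fi22C.setup_az S
  have he : a * z * z = a := by rw [mul_assoc, S.sq, mul_one]
  refine ⟨?_, N.range₀, N.lin_of_mem, N.anti_of_not_mem⟩
  exact { N.toCore with
    a_mem := T.a_mem
    a_comm := fun j hj => T.a_H₀ j (S.J_le hj)
    a_sq := T.a_sq
    a_out := T.a_out
    φ_ker := fun p hp => (N.toCore.φ_ker p hp).trans (by rw [he]; tauto) }

section quot

variable (S : Setup4 z a b c J K₀ π) {Q : Type u} [Group Q] [Finite Q]
  {f : ↥(Subgroup.centralizer ({a} : Set G)) →* Q}
  (hk : ∀ g, f g = 1 ↔ ((g : G) = 1 ∨ (g : G) = a))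
include S hk

/-- Elements with the same image differ by `a`. -/
theorem eq_or_of_image {x y : ↥(Subgroup.centralizer ({a} : Set G))} (h : f x = f y) :
    (x : G) = y ∨ (x : G) = a * y := by
  have h1 : f (x * y⁻¹) = 1 := by rw [map_mul, map_inv, h, mul_inv_cancel]
  rcases (hk _).1 h1 with e | e
  · exact Or.inl (mul_inv_eq_one.1 (e : (x : G) * (y : G)⁻¹ = 1))
  · exact Or.inr (mul_inv_eq_iff_eq_mul.1 (e : (x : G) * (y : G)⁻¹ = a))

theorem b_norm {p : G} {hp : p ∈ Subgroup.centralizer ({a} : Set G)}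
    (hcen : ∀ q : Q, Commute q (f ⟨p, hp⟩)) {g : G} (hg : Commute g a) :
    g * p * g⁻¹ = p ∨ g * p * g⁻¹ = a * p := by
  let x : ↥(Subgroup.centralizer ({a} : Set G)) := ⟨g, mem_cent' hg⟩
  refine eq_or_of_image S hk (x := x * ⟨p, hp⟩ * x⁻¹) (y := ⟨p, hp⟩) ?_
  rw [map_mul, map_mul, map_inv, (hcen (f x)).eq, mul_inv_cancel_right]

end quot

/-- The side of `a`. -/
theorem sideA_of (hQuot : QuotStmt.{u, v}) (hNoFix : NoFixStmt.{u, v})
    (hMod : H39.Fi22C.ModuleJStmt.{u, v}) (hDich : H39.Fi22C.DichNStmt.{u, v, w})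
    (hND : H39.Fi22C.NoSwapDeadStmt.{u, v}) (hNL : H39.Fi22C.NoSwapLiveStmt.{u, v, w})
    (hEnd : H39.Fi22C.EndNStmt.{u, v, w}) : SideAStmt.{u, v, w} := by
  intro G _ _ F _ _ K _ _ hK z a b c J K₀ π S hD
  classical
  haveI := genA_normal a
  let f := QuotientGroup.mk' (genA a)
  have hs : Function.Surjective f := QuotientGroup.mk'_surjective _
  have hk : ∀ g, f g = 1 ↔ ((g : G) = 1 ∨ (g : G) = a) := fun g =>
    (QuotientGroup.eq_one_iff g).trans (mem_genA S.a_sq g)
  have hzX : z ∈ Subgroup.centralizer ({a} : Set G) := mem_cent' (az S).symm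
  have hbX : b ∈ Subgroup.centralizer ({a} : Set G) := mem_cent' S.ab_comm.symm
  have hKX : ∀ g ∈ K₀, g ∈ Subgroup.centralizer ({a} : Set G) := fun g hg =>
    mem_cent' (S.a_K₀ g hg).symm
  obtain ⟨⟨π', S3⟩, hcent, hns, -⟩ :=
    hQuot S a (Or.inl rfl) (Subgroup.centralizer ({a} : Set G)) hzX hbX inf_le_right le_rfl f hs hk
  have hns' := hns rfl
  obtain ⟨φ, ρ, N⟩ := (hMod S3).resolve_right fun ⟨U, hU⟩ =>
    hNoFix S a (Or.inl rfl) (Subgroup.centralizer ({a} : Set G)) hzX hbX inf_le_right le_rfl f hk U hU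
  have hnsaz : NoSwap (f ⟨z, hzX⟩) (f ⟨b, hbX⟩ * f ⟨z, hzX⟩) := fun q hq =>
    (hns' q hq).mul_right (cent_comm' hq)
  have S3' := H38.Fi22C.setup_az S3
  have N' := natJ_mul S3 N
  -- an isolated live side is central in the quotient
  have hcentral : ∀ (p : ↥(Subgroup.centralizer ({a} : Set G)) ⧸ genA a)
      (S' : Setup3 (f ⟨z, hzX⟩) p (imX f J) (imX f K₀) π'),
      NoSwap (f ⟨z, hzX⟩) p → NatJ (f ⟨z, hzX⟩) p (imX f J) (imX f K₀) φ ρ →
      LiveN K (f ⟨z, hzX⟩) p (imX f K₀) → ∀ q, Commute q p := by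
    intro p S' hn hN hl q
    obtain ⟨hnorm, -⟩ := hEnd K hK S' hn hl (hNL K hK S' hN hn hl)
    obtain ⟨i, hi⟩ := hnorm.conj_mem p (Subgroup.mem_zpowers p) q
    have hi' : p ^ i = q * p * q⁻¹ := hi
    rcases Int.even_or_odd' i with ⟨m, rfl | rfl⟩
    · rw [zpow_mul, zpow_ofNat, pow_two, S'.a_sq, one_zpow] at hi'
      exact absurd (conj_eq_one_iff.1 hi'.symm) S'.a_out.1
    · rw [zpow_add, zpow_mul, zpow_ofNat, pow_two, S'.a_sq, one_zpow, one_mul, zpow_one] at hi'
      exact comm_of_conj_eq hi'.symm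
  -- the preimage of the index two subgroup of a live central side
  have hlift : ∀ (p : G) (hp : p ∈ Subgroup.centralizer ({a} : Set G)),
      (∀ q, Commute q (f ⟨p, hp⟩)) → p ≠ 1 → p ≠ a → p ≠ z → a * p ≠ z → LiveN K (f ⟨z, hzX⟩) (f ⟨p, hp⟩) (imX f K₀) →
      ∃ X₀ : Subgroup G, (∀ x ∈ X₀, Commute x a ∧ Commute x p) ∧
        (X₀.subgroupOf (Subgroup.centralizer ({a} : Set G))).index = 2 ∧
        X₀ ⊓ Subgroup.centralizer ({z} : Set G) = K₀ ∧
        ∃ g : ↥X₀ →* Cfsg.PSU 6 K 2, Function.Surjective g ∧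
          ∀ x, g x = 1 ↔ ((x : G) = 1 ∨ (x : G) = a ∨ (x : G) = p ∨ (x : G) = a * p) := by
    intro p hp hcen hp1 hpa hpz hapz hl
    obtain ⟨Y, hY, hidx, hYz, f', hf', hfk⟩ := hl
    have htop : Subgroup.centralizer ({f ⟨p, hp⟩} : Set _) = ⊤ :=
      top_unique fun q _ => mem_cent' (hcen q)
    have hidx' : Y.index = 2 := by
      have h1 := Subgroup.relIndex_mul_index hY
      rw [htop, Subgroup.index_top, mul_one] at h1
      rw [← h1, ← htop]
      exact hidx
    set X₀ := (Y.comap f).map (Subgroup.centralizer ({a} : Set G)).subtype with hX₀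
    let q : ↥(Y.comap f) →* ↥Y := f.subgroupComap Y
    have hq : Function.Surjective q := fun y => by
      obtain ⟨x, hx⟩ := hs y
      exact ⟨⟨x, show f x ∈ Y from hx ▸ y.2⟩, Subtype.ext hx⟩
    let e := (Y.comap f).equivMapOfInjective (Subgroup.centralizer ({a} : Set G)).subtype
      Subtype.val_injective
    let g : ↥X₀ →* Cfsg.PSU 6 K 2 := (f'.comp q).comp e.symm.toMonoidHom
    have hgs : Function.Surjective g := (hf'.comp hq).comp e.symm.surjective
    have hgk : ∀ x, g x = 1 ↔ ((x : G) = 1 ∨ (x : G) = a ∨ (x : G) = p ∨ (x : G) = a * p) := by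
      intro x
      obtain ⟨y, rfl⟩ := e.surjective x
      show f' (q (e.symm (e y))) = 1 ↔ _
      rw [MulEquiv.symm_apply_apply, hfk]
      show f y.1 = 1 ∨ f y.1 = f ⟨p, hp⟩ ↔ _
      constructor
      · rintro (h | h)
        · exact ((hk _).1 h).imp id Or.inl
        · exact Or.inr (Or.inr (eq_or_of_image S hk h))
      · rintro (h | h | h | h)
        · exact Or.inl ((hk _).2 (Or.inl h))
        · exact Or.inl ((hk _).2 (Or.inr h))
        · exact Or.inr (congrArg f (Subtype.ext h))
        · refine Or.inr ?_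
          rw [show y.1 = (⟨a, Subgroup.mem_centralizer_singleton_iff.2 rfl⟩ :
            ↥(Subgroup.centralizer ({a} : Set G))) * ⟨p, hp⟩ from Subtype.ext h, map_mul,
            (hk _).2 (Or.inr rfl), one_mul]
    have hconj : ∀ x : ↥X₀, (x : G) * p * (x : G)⁻¹ = p ∨ (x : G) * p * (x : G)⁻¹ = a * p := by
      intro x
      obtain ⟨y, -, hy⟩ := x.2
      rw [← hy]
      exact b_norm S hk hcen (cent_comm' y.2)
    have hxa : ∀ x ∈ X₀, Commute x a := by
      rintro _ ⟨y, -, rfl⟩
      exact cent_comm' y.2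
    let Yp : Subgroup ↥X₀ := (Subgroup.centralizer ({p} : Set G)).subgroupOf X₀
    have hYn : Yp.Normal := ⟨fun n hn x => by
      have hn' : (n : G) * p * (n : G)⁻¹ = p := conj_eq_of_comm (cent_comm' hn)
      have hna : (n : G) * a * (n : G)⁻¹ = a := conj_eq_of_comm (hxa n n.2)
      refine mem_cent' (comm_of_conj_eq ?_)
      have hx' : (x : G)⁻¹ * p * (x : G) = p ∨ (x : G)⁻¹ * p * (x : G) = a * p := by
        simpa using hconj x⁻¹
      show (x : G) * n * (x : G)⁻¹ * p * ((x : G) * n * (x : G)⁻¹)⁻¹ = p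
      rw [show (x : G) * n * (x : G)⁻¹ * p * ((x : G) * n * (x : G)⁻¹)⁻¹ =
        (x : G) * ((n : G) * ((x : G)⁻¹ * p * x) * (n : G)⁻¹) * (x : G)⁻¹ by group]
      rcases hx' with h | h
      · rw [h, hn']
        nth_rewrite 1 [← h]
        group
      · rw [h, show (n : G) * (a * p) * (n : G)⁻¹ = ((n : G) * a * (n : G)⁻¹) * ((n : G) * p * (n : G)⁻¹) by group,
          hna, hn', ← h]
        group⟩
    have hzK : z ∈ K₀ := S.J_le S.z_mem
    have hK₀ : K₀ ≤ X₀ := fun x hx => by
      refine ⟨⟨x, hKX x hx⟩, ?_, rfl⟩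
      have : f ⟨x, hKX x hx⟩ ∈ imX f K₀ := ⟨_, hx, rfl⟩
      rw [← hYz] at this
      exact this.1
    haveI hsimple : IsSimpleGroup (Cfsg.PSU 6 K 2) :=
      H50.PSU_isSimple (by rw [hK]; norm_num) (by norm_num) (by norm_num)
    have hYtop : Yp.map g = ⊤ := by
      refine (hsimple.eq_bot_or_eq_top_of_normal _ (hYn.map g hgs)).resolve_left fun h => ?_
      -- the kernel has four elements, while `K₀` centralises `p` on an index two subgroup
      have hone : ∀ x ∈ Yp, (x : G) = 1 ∨ (x : G) = a ∨ (x : G) = p ∨ (x : G) = a * p := fun x hx =>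
        (hgk x).1 (Subgroup.mem_bot.1 (h ▸ ⟨x, hx, rfl⟩))
      have hzp : Commute z p := by
        have hz' : f ⟨z, hzX⟩ ∈ imX f K₀ := ⟨_, hzK, rfl⟩
        rcases hconj ⟨z, hK₀ hzK⟩ with e' | e'
        · exact comm_of_conj_eq e'
        · exfalso
          -- then `z` maps to an element moving `p` and `J` has at most eight elements
          have hJle : ∀ x ∈ J, (x : G) * p * x⁻¹ = p → x = 1 ∨ x = a ∨ x = p ∨ x = a * p :=
            fun x hx hx' => hone ⟨x, hK₀ (S.J_le hx)⟩ (mem_cent' (comm_of_conj_eq hx'))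
          have hle : (J : Set G) ⊆ ↑(({1, a, p, a * p} : Finset G) ∪
              ({1, a, p, a * p} : Finset G).image (z * ·)) := by
            intro x hx
            rcases hconj ⟨x, hK₀ (S.J_le hx)⟩ with e'' | e''
            · have := hJle x hx e''
              simp only [Finset.coe_union, Set.mem_union, Finset.coe_insert, Finset.coe_singleton,
                Set.mem_insert_iff, Set.mem_singleton_iff]
              exact Or.inl this
            · have hzx := hJle (z⁻¹ * x) (mul_mem (inv_mem S.z_mem) hx) (by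
                have e1 : z * p * z⁻¹ = a * p := e'
                have e2 : x * p * x⁻¹ = a * p := e''
                calc z⁻¹ * x * p * (z⁻¹ * x)⁻¹ = z⁻¹ * (x * p * x⁻¹) * z := by group
                  _ = p := by rw [e2, ← e1]; group)
              simp only [Finset.coe_union, Set.mem_union, Finset.coe_image, Set.mem_image,
                Finset.coe_insert, Finset.coe_singleton, Set.mem_insert_iff, Set.mem_singleton_iff]
              exact Or.inr ⟨z⁻¹ * x, hzx, by group⟩
          have h1 := Set.ncard_le_ncard hle (Finset.finite_toSet _)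
          rw [Set.ncard_coe_finset, ← Nat.card_coe_set_eq] at h1
          have h2 := Finset.card_union_le ({1, a, p, a * p} : Finset G)
            (({1, a, p, a * p} : Finset G).image (z * ·))
          have h4 : ({1, a, p, a * p} : Finset G).card ≤ 4 := Finset.card_le_four
          have h5 : (({1, a, p, a * p} : Finset G).image (z * ·)).card ≤ 4 :=
            Finset.card_image_le.trans h4
          have h3 : Nat.card (J : Set G) = 2 ^ 11 := S.card_J
          omega
      rcases hone ⟨z, hK₀ hzK⟩ (mem_cent' hzp) with e' | e' | e' | e'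
      · exact S.ne_one e'
      · exact S.a_ne.2 e'.symm
      · exact hpz e'.symm
      · exact hapz e'.symm
    refine ⟨X₀, fun x hx => ⟨hxa x hx, ?_⟩, ?_, ?_, g, hgs, hgk⟩
    · obtain ⟨y, hy, hyx⟩ : g ⟨x, hx⟩ ∈ Yp.map g := hYtop ▸ Subgroup.mem_top _
      have h1 : g (y⁻¹ * ⟨x, hx⟩) = 1 := by rw [map_mul, map_inv, hyx, inv_mul_cancel]
      have h2 : Commute ((y : G)⁻¹ * x) p := by
        rcases (hgk _).1 h1 with h' | h' | h' | h' <;>
          rw [show (((y⁻¹ * ⟨x, hx⟩ : ↥X₀) : G)) = (y : G)⁻¹ * x from rfl] at h' <;> rw [h']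
        exacts [Commute.one_left p, (cent_comm' hp).symm,
          ((cent_comm' hp).symm).mul_left (Commute.refl p)]
      have := (show Commute (y : G) p from cent_comm' hy).mul_left h2
      rwa [mul_inv_cancel_left] at this
    · rw [show X₀.subgroupOf (Subgroup.centralizer ({a} : Set G)) = Y.comap f from
        Subgroup.comap_map_eq_self_of_injective Subtype.val_injective _,
        Subgroup.index_comap_of_surjective _ hs, hidx']
    · refine le_antisymm ?_ fun x hx => ⟨hK₀ hx, S.le_cent hx⟩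
      rintro _ ⟨⟨y, hy, rfl⟩, hyz⟩
      have h1 : f y ∈ imX f K₀ := by
        rw [← hYz, hcent]
        exact ⟨hy, ⟨y, hyz, rfl⟩⟩
      obtain ⟨x, hx, hxy⟩ := h1
      have hx' : (x : G) ∈ K₀ := hx
      rcases eq_or_of_image S hk hxy.symm with h2 | h2
      · show (y : G) ∈ K₀
        rw [h2]
        exact hx'
      · show (y : G) ∈ K₀
        rw [h2]
        exact mul_mem (S.J_le S.a_mem) hx'
  rcases hDich K hK S3 hns' with hd | hl
  swap
  · -- `b` live
    right
    have hcen := hcentral _ S3 hns' N hl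
    have hb1 : b ≠ a := S.b_ne.2.2.1
    obtain ⟨X₀, hX, hidx, hXz, g, hg, hgk⟩ := hlift b hbX hcen S.b_ne.1 hb1 S.b_ne.2.1 S.ab_ne hl
    refine ⟨fun q hq w hw => ?_, X₀, hX, hidx, hXz, g, hg, hgk⟩
    have ha' : q * a * q⁻¹ = a := conj_eq_of_comm hq
    have hbb := b_norm S hk hcen hq
    rcases hw with rfl | rfl | rfl | rfl
    · exact Or.inl (by group)
    · exact Or.inr (Or.inl ha')
    · rcases hbb with e | e
      · exact Or.inr (Or.inr (Or.inl e))
      · exact Or.inr (Or.inr (Or.inr e))
    · rw [show q * (a * b) * q⁻¹ = (q * a * q⁻¹) * (q * b * q⁻¹) by group, ha']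
      rcases hbb with e | e <;> rw [e]
      · exact Or.inr (Or.inr (Or.inr rfl))
      · exact Or.inr (Or.inr (Or.inl (by rw [← mul_assoc, S.a_sq, one_mul])))
  rcases hDich K hK S3' hnsaz with hd' | hl'
  · -- both dead
    left
    have hwc := hND S3 N hns' hd hd'
    refine fun e he => dead_rot S ?_ he
    refine dead_of_isolated S.sq (az S).symm fun g hg hc => ?_
    let x : ↥(Subgroup.centralizer ({a} : Set G)) := ⟨g, mem_cent' hg⟩
    have h1 : f (x * ⟨z, hzX⟩ * x⁻¹) = f ⟨z, hzX⟩ := by
      refine hwc _ (mem_cent' (Commute.map (show Commute (x * ⟨z, hzX⟩ * x⁻¹) ⟨z, hzX⟩ from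
        Subtype.ext hc.eq) f)) ?_
      exact f.map_isConj (isConj_iff.2 ⟨x, rfl⟩)
    rcases eq_or_of_image S hk h1 with h2 | h2
    · exact h2
    · exfalso
      have h2' : g * z * g⁻¹ = a * z := h2
      -- `g` normalises the core, so fixes `z`
      have hgJ : ∀ j ∈ J, g * j * g⁻¹ ∈ J := by
        have hgcz : ∀ k, Commute k z → Commute k a → Commute (g⁻¹ * k * g) z ∧
            Commute (g⁻¹ * k * g) a := by
          intro k hkz hka
          have hk' : Commute k (g * z * g⁻¹) := h2'.symm ▸ hka.mul_right hkz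
          have h3 := hk'.map (MulAut.conj g⁻¹).toMonoidHom
          simp only [MulEquiv.coe_toMonoidHom, MulAut.conj_apply, inv_inv] at h3
          rw [show g⁻¹ * (g * z * g⁻¹) * g = z by group] at h3
          exact ⟨h3, (hg.inv_left.mul_left hka).mul_left hg⟩
        intro j hj
        set C := Subgroup.centralizer ({f ⟨z, hzX⟩} : Set (↥(Subgroup.centralizer ({a} : Set G)) ⧸ genA a))
        have hmem : ∀ y : ↥(Subgroup.centralizer ({a} : Set G)), f y ∈ imX f J → (y : G) ∈ J := by
          rintro y ⟨w, hw, hwy⟩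
          have hw' : (w : G) ∈ J := hw
          rcases eq_or_of_image S hk hwy.symm with h4 | h4 <;> rw [h4]
          exacts [hw', mul_mem S.a_mem hw']
        have hjC : Commute (g * j * g⁻¹) z := by
          have hja : Commute j a := (S.a_K₀ j (S.J_le hj)).symm
          have h5 : Commute (g * j * g⁻¹) (g * z * g⁻¹) :=
            (comm_z S j hj).map (MulAut.conj g).toMonoidHom
          have h6 : Commute (g * j * g⁻¹) a := (hg.mul_left hja).mul_left hg.inv_left
          rw [h2'] at h5
          have := h6.inv_right.mul_right h5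
          rwa [inv_mul_cancel_left] at this
        let fg : ↥J →* ↥C :=
          { toFun := fun i => ⟨f (x * ⟨i, hKX i (S.J_le i.2)⟩ * x⁻¹), by
              rw [hcent]
              refine ⟨_, ?_, rfl⟩
              have h5 : Commute (g * (i : G) * g⁻¹) (g * z * g⁻¹) :=
                (comm_z S i i.2).map (MulAut.conj g).toMonoidHom
              have h6 : Commute (g * (i : G) * g⁻¹) a :=
                (hg.mul_left (S.a_K₀ i (S.J_le i.2)).symm).mul_left hg.inv_left
              rw [h2'] at h5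
              have := h6.inv_right.mul_right h5
              rw [inv_mul_cancel_left] at this
              exact mem_cent' this⟩
            map_one' := Subtype.ext (by simp [show (⟨(1 : G), hKX 1 K₀.one_mem⟩ :
              ↥(Subgroup.centralizer ({a} : Set G))) = 1 from rfl])
            map_mul' := fun i i' => Subtype.ext (by
              show f _ = f _ * f _
              rw [← map_mul]
              exact congrArg f (Subtype.ext (by simp [mul_assoc]))) }
        haveI : Fact (Nat.Prime 2) := ⟨Nat.prime_two⟩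
        have hfg2 : IsPGroup 2 fg.range :=
          (IsPGroup.of_card (n := 11) S.card_J).of_surjective fg.rangeRestrict
            fg.rangeRestrict_surjective
        haveI : fg.range.Normal := ⟨fun n hn q => by
          obtain ⟨i, rfl⟩ := hn
          obtain ⟨k, hk', hkq⟩ := (le_of_eq hcent) q.2
          obtain ⟨hk1, hk2⟩ := hgcz k (cent_comm' hk') (cent_comm' k.2)
          have hi' : (g⁻¹ * k * g) * i * (g⁻¹ * k * g)⁻¹ ∈ J :=
            S.conj_mem _ (mem_cent' hk1) i i.2
          refine ⟨⟨_, hi'⟩, Subtype.ext ?_⟩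
          show f _ = (q : _ ⧸ _) * f _ * (q : _ ⧸ _)⁻¹
          rw [← hkq, ← map_inv, ← map_mul, ← map_mul]
          refine congrArg f (Subtype.ext ?_)
          show g * ((g⁻¹ * k * g) * i * (g⁻¹ * k * g)⁻¹) * g⁻¹ = k * (g * i * g⁻¹) * (k : G)⁻¹
          group⟩
        have h7 : (fg ⟨j, hj⟩ : ↥C) ∈ Cfsg.pCore 2 ↥C := H1.le_pCore hfg2 ⟨_, rfl⟩
        have h8 : f (x * ⟨j, hKX j (S.J_le hj)⟩ * x⁻¹) ∈ imX f J := by
          rw [S3.core]
          exact ⟨_, h7, rfl⟩
        exact hmem _ h8
      obtain ⟨p, hp, q, hq, hpq⟩ : ∃ p ∈ J, ∃ q ∈ J, p * q = q * p * z := by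
        by_contra hall
        have hle : (J : Set G) ⊆ ↑(({1, a, b, a * b} : Finset G) ∪
            ({1, a, b, a * b} : Finset G).image (· * z)) := fun p hp => by
          have := S.center p hp fun q hq =>
            (S.comm_mem p hp q hq).resolve_right fun h => hall ⟨p, hp, q, hq, h⟩
          simp only [Finset.coe_union, Set.mem_union, Finset.coe_image, Set.mem_image,
            Finset.coe_insert, Finset.coe_singleton, Set.mem_insert_iff, Set.mem_singleton_iff]
          rcases this with h | h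
          · exact Or.inl h
          · exact Or.inr ⟨p * z, h, by rw [mul_assoc, S.sq, mul_one]⟩
        have h1 := Set.ncard_le_ncard hle (Finset.finite_toSet _)
        rw [Set.ncard_coe_finset, ← Nat.card_coe_set_eq] at h1
        have h2 := Finset.card_union_le ({1, a, b, a * b} : Finset G)
          (({1, a, b, a * b} : Finset G).image (· * z))
        have h4 : ({1, a, b, a * b} : Finset G).card ≤ 4 := Finset.card_le_four
        have h5 : (({1, a, b, a * b} : Finset G).image (· * z)).card ≤ 4 :=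
          Finset.card_image_le.trans h4
        have h3 : Nat.card (J : Set G) = 2 ^ 11 := S.card_J
        omega
      have e : (g * p * g⁻¹) * (g * q * g⁻¹) =
          (g * q * g⁻¹) * (g * p * g⁻¹) * (g * z * g⁻¹) := by
        calc (g * p * g⁻¹) * (g * q * g⁻¹) = g * (p * q) * g⁻¹ := by group
          _ = g * (q * p * z) * g⁻¹ := by rw [hpq]
          _ = _ := by group
      rw [h2'] at e
      rcases S.comm_mem _ (hgJ p hp) _ (hgJ q hq) with e' | e' <;> rw [e'] at e
      · refine S.a_ne.2 ?_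
        have := left_eq_mul.1 e
        rw [eq_inv_of_mul_eq_one_left this, inv_eq_of_mul_eq_one_right S.sq]
      · refine S.a_ne.1 ?_
        exact mul_eq_right.1 (mul_left_cancel e).symm
  · -- `bz` live contradicts the dead centralisers
    exfalso
    have hp : b * z ∈ Subgroup.centralizer ({a} : Set G) := mul_mem hbX hzX
    have ebz : f ⟨b * z, hp⟩ = f ⟨b, hbX⟩ * f ⟨z, hzX⟩ := by rw [← map_mul]; rfl
    have hcen : ∀ q, Commute q (f ⟨b * z, hp⟩) := ebz ▸ hcentral _ S3' hnsaz N' hl'
    have hp1 : b * z ≠ 1 := fun e => S.b_ne.2.1 (by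
      rw [eq_inv_of_mul_eq_one_left e, inv_eq_of_mul_eq_one_right S.sq])
    have hpa : b * z ≠ a := fun e => S.b_ne.2.2.2 (by rw [← e, mul_assoc, S.sq, mul_one])
    have hpz : b * z ≠ z := fun e => S.b_ne.1 (mul_eq_right.1 e)
    have hapz : a * (b * z) ≠ z := fun e => by
      have h2 : a * b = 1 := mul_eq_right.1 ((mul_assoc a b z).trans e)
      exact S.b_ne.2.2.1 ((eq_inv_of_mul_eq_one_right h2).trans
        (inv_eq_of_mul_eq_one_right S.a_sq))
    obtain ⟨X₀, hX, -, hXz, g, hg, hgk⟩ := hlift (b * z) hp hcen hp1 hpa hpz hapz (ebz ▸ hl')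
    have hd2 := hD b (Or.inr (Or.inl rfl))
    haveI hsimple : IsSimpleGroup (Cfsg.PSU 6 K 2) :=
      H50.PSU_isSimple (by rw [hK]; norm_num) (by norm_num) (by norm_num)
    have hzX₀ : z ∈ X₀ := (hXz ▸ inf_le_left : K₀ ≤ X₀) (S.J_le S.z_mem)
    have hw1 : g ⟨z, hzX₀⟩ ≠ 1 := fun e => by
      rcases (hgk _).1 e with h | h | h | h
      · exact S.ne_one h
      · exact S.a_ne.2 h.symm
      · exact S.b_ne.1 (mul_eq_right.1 (show b * z = z from h.symm))
      · have h1 : a * b * z = z := (mul_assoc a b z).trans h.symm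
        have h2 : a * b = 1 := mul_eq_right.1 h1
        exact S.b_ne.2.2.1 ((eq_inv_of_mul_eq_one_right h2).trans
          (inv_eq_of_mul_eq_one_right S.a_sq))
    have hord : orderOf (g ⟨z, hzX₀⟩) = 2 := by
      haveI : Fact (Nat.Prime 2) := ⟨Nat.prime_two⟩
      refine orderOf_eq_prime ?_ hw1
      rw [pow_two, ← map_mul, show (⟨z, hzX₀⟩ * ⟨z, hzX₀⟩ : ↥X₀) = 1 from Subtype.ext S.sq, map_one]
    have hwc : H38.U6C.WC (g ⟨z, hzX₀⟩) := by
      intro y hy hyc
      obtain ⟨q, rfl⟩ := isConj_iff.1 hyc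
      obtain ⟨x, rfl⟩ := hg q
      set t : ↥X₀ := x * ⟨z, hzX₀⟩ * x⁻¹ with htd
      have hft : g t = g x * g ⟨z, hzX₀⟩ * (g x)⁻¹ := by rw [htd, map_mul, map_mul, map_inv]
      rw [← hft] at hy ⊢
      have h1 : g (⟨z, hzX₀⟩ * t * ⟨z, hzX₀⟩⁻¹ * t⁻¹) = 1 := by
        rw [map_mul, map_mul, map_mul, map_inv, map_inv,
          ← Subgroup.mem_centralizer_singleton_iff.1 hy]
        group
      set w := z * (t : G) * z⁻¹ * (t : G)⁻¹ with hwd
      have hwW : w = 1 ∨ w = a ∨ w = b * z ∨ w = a * (b * z) := (hgk _).1 h1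
      have hX' : ∀ p ∈ X₀, Commute p w := by
        intro p hp'
        rcases hwW with h | h | h | h <;> rw [h]
        exacts [Commute.one_right p, (hX p hp').1, (hX p hp').2,
          (hX p hp').1.mul_right (hX p hp').2]
      have hwX : w ∈ X₀ := (⟨z, hzX₀⟩ * t * ⟨z, hzX₀⟩⁻¹ * t⁻¹ : ↥X₀).2
      have hw2 : w * w = 1 := by
        have hab : Commute a (b * z) := S.ab_comm.mul_right (az S)
        have hbz2 : b * z * (b * z) = 1 := by
          rw [show b * z * (b * z) = b * (z * b) * z by group, ← (bz S).eq,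
            show b * (b * z) * z = (b * b) * (z * z) by group, S.b_sq, S.sq, one_mul]
        rcases hwW with h | h | h | h <;> rw [h]
        · exact one_mul 1
        · exact S.a_sq
        · exact hbz2
        · rw [show a * (b * z) * (a * (b * z)) = a * ((b * z) * a) * (b * z) by group, ← hab.eq,
            show a * (a * (b * z)) * (b * z) = (a * a) * ((b * z) * (b * z)) by group, S.a_sq,
            hbz2, one_mul]
      have ht2 : (t : G) * t = 1 := by
        show (x : G) * z * (x : G)⁻¹ * ((x : G) * z * (x : G)⁻¹) = 1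
        rw [show (x : G) * z * (x : G)⁻¹ * ((x : G) * z * (x : G)⁻¹) = (x : G) * (z * z) * (x : G)⁻¹
          by group, S.sq]
        group
      have htw : Commute (t : G) w := hX' t t.2
      let P : Subgroup G :=
        { carrier := {p | p = 1 ∨ p = w ∨ p = t ∨ p = w * t}
          one_mem' := Or.inl rfl
          mul_mem' := by
            have c1 : (t : G) * w = w * t := htw.eq
            have c2 : w * (w * t) = (t : G) := by rw [← mul_assoc, hw2, one_mul]
            have c3 : w * (t : G) * w = t := by rw [mul_assoc, c1, c2]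
            have c4 : (t : G) * (w * t) = w := by rw [← mul_assoc, c1, mul_assoc, ht2, mul_one]
            have c5 : w * (t : G) * t = w := by rw [mul_assoc, ht2, mul_one]
            have c6 : w * (t : G) * (w * t) = 1 := by rw [← mul_assoc, c3, ht2]
            rintro p q (rfl | rfl | rfl | rfl) (rfl | rfl | rfl | rfl) <;>
              simp only [Set.mem_setOf_eq, one_mul, mul_one, hw2, ht2, c1, c2, c3, c4, c5, c6,
                true_or, or_true]
          inv_mem' := by
            have hwi : w⁻¹ = w := inv_eq_of_mul_eq_one_right hw2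
            have hti : (t : G)⁻¹ = t := inv_eq_of_mul_eq_one_right ht2
            rintro p (rfl | rfl | rfl | rfl) <;>
              simp only [Set.mem_setOf_eq, inv_one, mul_inv_rev, hwi, hti, htw.eq, true_or, or_true] }
      have hPX : ∀ p ∈ P, p ∈ X₀ := by
        rintro p (rfl | rfl | rfl | rfl)
        exacts [one_mem _, hwX, t.2, mul_mem hwX t.2]
      have hP2 : IsPGroup 2 P := fun p => ⟨1, Subtype.ext (by
        show (p : G) ^ (2 ^ 1) = 1
        rw [pow_one, pow_two]
        rcases p.2 with h | h | h | h <;> rw [h]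
        · exact one_mul 1
        · exact hw2
        · exact ht2
        · rw [show w * (t : G) * (w * t) = w * ((t : G) * w) * t by group, htw.eq,
            show w * (w * t) * (t : G) = (w * w) * ((t : G) * t) by group, hw2, ht2, one_mul])⟩
      have hzw : z * w * z⁻¹ = w := conj_eq_of_comm (hX' z hzX₀)
      have hzt : z * (t : G) * z⁻¹ = w * t := by rw [hwd]; group
      have hdead := hd2.2 P hP2 (fun p hp' => (hX p (hPX p hp')).2) (by
        rintro p (rfl | rfl | rfl | rfl)
        · exact Or.inl (by group)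
        · exact Or.inr (Or.inl hzw)
        · exact Or.inr (Or.inr (Or.inr hzt))
        · refine Or.inr (Or.inr (Or.inl ?_))
          rw [show z * (w * t) * z⁻¹ = (z * w * z⁻¹) * (z * t * z⁻¹) by group, hzw, hzt, ← mul_assoc,
            hw2, one_mul]) t (Or.inr (Or.inr (Or.inl rfl)))
      have h9 : (x : G) * z * (x : G)⁻¹ = z := hd2.1 x ((hX x x.2).2) hdead.symm
      exact congrArg g (Subtype.ext h9)
    have htop := H38.U6C.mul_core_of_wc hord hwc
    have hN : (Cfsg.oddCore (Cfsg.PSU 6 K 2)).Normal := H1.pPrimeCore_normal' 2 _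
    have hodd : Odd (Nat.card (Cfsg.oddCore (Cfsg.PSU 6 K 2))) :=
      Nat.coprime_two_right.1 (H1.card_pPrimeCore_coprime 2 _)
    rcases hsimple.eq_bot_or_eq_top_of_normal _ hN with e | e
    · rw [e, sup_bot_eq] at htop
      haveI hzn : (Subgroup.center (Cfsg.PSU 6 K 2)).Normal :=
        Subgroup.normal_of_characteristic _
      have hcenw : g ⟨z, hzX₀⟩ ∈ Subgroup.center (Cfsg.PSU 6 K 2) := Subgroup.mem_center_iff.2
        fun y => Subgroup.mem_centralizer_singleton_iff.1 (htop ▸ Subgroup.mem_top y)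
      rcases hsimple.eq_bot_or_eq_top_of_normal _ hzn with e' | e'
      · rw [e', Subgroup.mem_bot] at hcenw
        exact hw1 hcenw
      · obtain ⟨p, hp', q, hq', hpq⟩ : ∃ p ∈ J, ∃ q ∈ J, p * q = q * p * z := by
          by_contra hall
          have hle : (J : Set G) ⊆ ↑(({1, a, b, a * b} : Finset G) ∪
              ({1, a, b, a * b} : Finset G).image (· * z)) := fun p hp => by
            have := S.center p hp fun q hq =>
              (S.comm_mem p hp q hq).resolve_right fun h => hall ⟨p, hp, q, hq, h⟩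
            simp only [Finset.coe_union, Set.mem_union, Finset.coe_image, Set.mem_image,
              Finset.coe_insert, Finset.coe_singleton, Set.mem_insert_iff, Set.mem_singleton_iff]
            rcases this with h | h
            · exact Or.inl h
            · exact Or.inr ⟨p * z, h, by rw [mul_assoc, S.sq, mul_one]⟩
          have h1 := Set.ncard_le_ncard hle (Finset.finite_toSet _)
          rw [Set.ncard_coe_finset, ← Nat.card_coe_set_eq] at h1
          have h2 := Finset.card_union_le ({1, a, b, a * b} : Finset G)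
            (({1, a, b, a * b} : Finset G).image (· * z))
          have h4 : ({1, a, b, a * b} : Finset G).card ≤ 4 := Finset.card_le_four
          have h5 : (({1, a, b, a * b} : Finset G).image (· * z)).card ≤ 4 :=
            Finset.card_image_le.trans h4
          have h3 : Nat.card (J : Set G) = 2 ^ 11 := S.card_J
          omega
        have hK' : K₀ ≤ X₀ := hXz ▸ inf_le_left
        let p' : ↥X₀ := ⟨p, hK' (S.J_le hp')⟩
        let q' : ↥X₀ := ⟨q, hK' (S.J_le hq')⟩
        have hcom : g p' * g q' = g q' * g p' :=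
          Subgroup.mem_center_iff.1 (e' ▸ Subgroup.mem_top (g q')) (g p')
        refine hw1 ?_
        have h10 : g (p' * q') = g (q' * p' * ⟨z, hzX₀⟩) := congrArg g (Subtype.ext hpq)
        rw [map_mul, map_mul, map_mul, hcom] at h10
        exact left_eq_mul.1 h10
    · have h2 : orderOf (g ⟨z, hzX₀⟩) ∣ Nat.card (Cfsg.oddCore (Cfsg.PSU 6 K 2)) :=
        Subgroup.orderOf_dvd_natCard _ (e ▸ Subgroup.mem_top _)
      rw [hord] at h2
      exact absurd hodd (Nat.not_odd_iff_even.2 (even_iff_two_dvd.2 h2))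

end H55.Fi23C
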